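import Groth.Agent.FormStabLib.NotStable

/-!
# Coordinates adapted to weights and to subspaces
-/

universe u

noncomputable section

open MvPolynomial Matrix

namespace FormStabLib

variable {k : Type u} [Field k] {N m : ℕ}

/-- The sum of the linear forms with coefficient vector `c`. -/
def linForm (c : Fin N → k) : MvPolynomial (Fin N) k := ∑ j, C (c j) * X j

theorem sub_linForm (M : Matrix (Fin N) (Fin N) k) (c : Fin N → k) :
    sub M (linForm c) = linForm (c ᵥ* M) := by
  simp only [linForm, map_sum, map_mul, sub_X, Matrix.vecMul, dotProduct, Finset.mul_sum, Finset.sum_mul,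
    ← MvPolynomial.algebraMap_eq, AlgHom.commutes, mul_assoc]
  exact Finset.sum_comm

theorem coeff_single_linForm (c : Fin N → k) (j : Fin N) : coeff (Finsupp.single j 1) (linForm c) = c j := by
  classical
  simp [linForm, coeff_sum, coeff_X, Finsupp.single_left_inj one_ne_zero, eq_comm]

theorem eq_linForm {ℓ : MvPolynomial (Fin N) k} (h : ℓ.IsHomogeneous 1) :
    ℓ = linForm fun j => coeff (Finsupp.single j 1) ℓ := by
  classical
  ext e
  by_cases he : e.degree = 1
  · obtain ⟨i, rfl⟩ : ∃ i, e = Finsupp.single i 1 := by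
      have hne : e ≠ 0 := fun h0 => by simp [h0] at he
      obtain ⟨i, hi⟩ := Finsupp.ne_iff.1 hne
      rw [Finsupp.coe_zero, Pi.zero_apply] at hi
      refine ⟨i, ?_⟩
      have hle : Finsupp.single i 1 ≤ e := Finsupp.single_le_iff.2 (Nat.one_le_iff_ne_zero.2 hi)
      obtain ⟨d, rfl⟩ := exists_add_of_le hle
      rw [map_add, Finsupp.degree_single] at he
      have : d = 0 := (Finsupp.degree_eq_zero_iff d).1 (by omega)
      rw [this, add_zero]
    rw [coeff_single_linForm]
  · have h1 : (linForm fun j => coeff (Finsupp.single j 1) ℓ).IsHomogeneous 1 :=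
      IsHomogeneous.sum _ _ _ fun j _ => isHomogeneous_C_mul_X _ _
    rw [h.coeff_eq_zero he, h1.coeff_eq_zero he]

/-- Fewer than `N` independent vectors are the first columns of a matrix of determinant one. -/
theorem exists_completion {r : ℕ} (f : Fin r → Fin N → k) (hf : LinearIndependent k f) (hr : r < N) :
    ∃ M : Matrix (Fin N) (Fin N) k, M.det = 1 ∧ ∀ i, M.col (Fin.castLE hr.le i) = f i := by
  classical
  obtain ⟨C', hC⟩ := Submodule.exists_isCompl (Submodule.span k (Set.range f))
  let c := Module.finrank k C'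
  have hrc : r + c = N := by
    have := Submodule.finrank_add_eq_of_isCompl hC
    rwa [finrank_span_eq_card hf, Fintype.card_fin, Module.finrank_fin_fun] at this
  let B : Module.Basis (Fin N) k (Fin N → k) :=
    (((Module.Basis.span hf).prod (Module.finBasis k C')).map (Submodule.prodEquivOfIsCompl _ _ hC)).reindex
      (finSumFinEquiv.trans (finCongr hrc))
  let M₀ : Matrix (Fin N) (Fin N) k := Matrix.of fun i j => B j i
  have hM₀ : M₀ = (Pi.basisFun k (Fin N)).toMatrix B := by
    ext i j; simp [M₀, Module.Basis.toMatrix_apply]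
  have hd : M₀.det ≠ 0 := by
    have := Module.Basis.invertibleToMatrix (Pi.basisFun k (Fin N)) B
    rw [hM₀]
    exact (Matrix.isUnit_det_of_invertible _).ne_zero
  let last : Fin N := ⟨r, hr⟩
  refine ⟨M₀.updateCol last (M₀.det⁻¹ • M₀.col last), ?_, fun i => ?_⟩
  · rw [Matrix.det_updateCol_smul, show M₀.updateCol last (M₀.col last) = M₀ by ext a b; simp [Matrix.updateCol_apply]; rintro rfl; rfl,
      inv_mul_cancel₀ hd]
  · have hne : Fin.castLE hr.le i ≠ last := fun h => by
      have := congrArg Fin.val h
      simp [last] at this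
      omega
    have hB : B (Fin.castLE hr.le i) = f i := by
      have : (finSumFinEquiv.trans (finCongr hrc)).symm (Fin.castLE hr.le i) = Sum.inl i := by
        rw [Equiv.symm_apply_eq]; ext; simp
      rw [Module.Basis.reindex_apply, this]
      simp [Module.Basis.prod_apply, Submodule.coe_prodEquivOfIsCompl', Module.Basis.span_apply]
    ext a
    simp [Matrix.col, hne, M₀, hB]

/-- Permuting the coordinates renames the variables. -/
theorem sub_submatrix (M : Matrix (Fin N) (Fin N) k) (σ : Equiv.Perm (Fin N)) (F : MvPolynomial (Fin N) k) :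
    sub (M.submatrix id σ) F = rename σ.symm (sub M F) := by
  rw [← AlgHom.comp_apply]
  congr 1
  ext i : 1
  simp only [AlgHom.comp_apply, sub_X, map_sum, map_mul, rename_X, rename_C, Matrix.submatrix_apply, id]
  exact Fintype.sum_equiv σ _ _ fun j => by simp

/-- It is enough to test weights which decrease along the coordinates. -/
theorem noDestab_of_sorted {F : MvPolynomial (Fin N) k}
    (h : ∀ M : Matrix (Fin N) (Fin N) k, M.det = 1 →
      ∀ (Γ : Type u) [LinearOrderedCommGroupWithZero Γ] (w : Fin N → Γ), Antitone w → ∏ i, w i = 1 →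
        (∀ e ∈ (sub M F).support, ∏ i, w i ^ e i ≤ 1) → ∀ i, w i = 1) : NoDestab F := by
  classical
  intro M hM Γ _ w hprod hw
  let σ : Equiv.Perm (Fin N) := Tuple.sort (fun i => OrderDual.toDual (w i))
  have hanti : Antitone (w ∘ σ) := fun s s' hs => Tuple.monotone_sort (fun i => OrderDual.toDual (w i)) hs
  rcases Nat.eq_zero_or_pos N with hN | hN
  · subst hN; exact fun i => i.elim0
  let ε : Fin N → k := fun i => if i = ⟨0, hN⟩ then ((Equiv.Perm.sign σ : ℤ) : k) else 1
  have hε : ∀ i, ε i ≠ 0 := fun i => by
    dsimp only [ε]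
    split_ifs
    · rcases Int.units_eq_one_or (Equiv.Perm.sign σ) with h' | h' <;> simp [h']
    · exact one_ne_zero
  let M' : Matrix (Fin N) (Fin N) k := M.submatrix id σ * Matrix.diagonal ε
  have hM' : M'.det = 1 := by
    rw [Matrix.det_mul, Matrix.det_diagonal, Matrix.det_permute', hM, mul_one]
    simp only [ε, Finset.prod_ite_eq', Finset.mem_univ, if_true]
    rcases Int.units_eq_one_or (Equiv.Perm.sign σ) with h' | h' <;> simp [h']
  have key := h M' hM' Γ (w ∘ σ) hanti ((Equiv.prod_comp σ w).trans hprod) fun e he => by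
    rw [mem_support_iff, sub_mul, coeff_sub_diagonal, sub_submatrix] at he
    obtain ⟨e', rfl, he'⟩ := coeff_rename_ne_zero _ _ _ (left_ne_zero_of_mul he)
    refine le_trans (le_of_eq ?_) (hw e' (mem_support_iff.2 he'))
    refine Fintype.prod_equiv σ _ _ fun i => ?_
    rw [Function.comp_apply]
    congr 1
    conv_lhs => rw [← σ.symm_apply_apply i]
    exact Finsupp.mapDomain_apply σ.symm.injective _ _
  intro i
  simpa using key (σ.symm i)

/-- Monomials of a substituted form have the degree of the form. -/
theorem degree_of_mem_support {F : MvPolynomial (Fin N) k} (hF : F.IsHomogeneous m) (M : Matrix (Fin N) (Fin N) k)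
    {e : Fin N →₀ ℕ} (he : e ∈ (sub M F).support) : ∑ i, e i = m := by
  rw [← Finsupp.degree_eq_sum, Finsupp.degree_eq_weight_one]
  exact isHomogeneous_sub M hF (mem_support_iff.1 he)

/-- A substitution is undone by the adjugate matrix. -/
theorem sub_adjugate {M : Matrix (Fin N) (Fin N) k} (hM : M.det = 1) (F : MvPolynomial (Fin N) k) :
    sub M.adjugate (sub M F) = F := by
  rw [← sub_mul, Matrix.mul_adjugate, hM, one_smul, sub_one]

theorem multinomial_ne_zero_of_factorial (hm : (m.factorial : k) ≠ 0) (l : CoordGrp.FormIdx N m) :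
    (l.1.multinomial : k) ≠ 0 := by
  intro h
  apply hm
  rw [← l.2, Finsupp.degree_apply, ← Nat.multinomial_spec]
  rw [Nat.cast_mul, show (Nat.multinomial l.1.support l.1 : k) = (l.1.multinomial : k) from rfl, h, mul_zero]

theorem multinomial_ne_zero [CharZero k] (l : CoordGrp.FormIdx N m) : (l.1.multinomial : k) ≠ 0 :=
  multinomial_ne_zero_of_factorial (Nat.cast_ne_zero.2 m.factorial_ne_zero) l

end FormStabLib

end
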