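import Mathlib

/-!
# Linear substitution in polynomials
-/

universe u v

namespace FormStabLib

open MvPolynomial Matrix

variable {R : Type u} [CommRing R] {N : ℕ}

/-- The substitution `F ↦ F(M x)`. -/
noncomputable def sub (M : Matrix (Fin N) (Fin N) R) : MvPolynomial (Fin N) R →ₐ[R] MvPolynomial (Fin N) R :=
  aeval fun i => ∑ j, C (M i j) * X j

theorem sub_X (M : Matrix (Fin N) (Fin N) R) (i : Fin N) : sub M (X i) = ∑ j, C (M i j) * X j :=
  aeval_X _ i

theorem sub_mul (A B : Matrix (Fin N) (Fin N) R) (F : MvPolynomial (Fin N) R) :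
    sub (A * B) F = sub B (sub A F) := by
  rw [← AlgHom.comp_apply]
  congr 1
  ext i : 1
  simp only [AlgHom.comp_apply, sub_X, map_sum, map_mul, Matrix.mul_apply, ← MvPolynomial.algebraMap_eq,
    AlgHom.commutes, Finset.mul_sum, Finset.sum_mul, mul_assoc]
  exact Finset.sum_comm

theorem sub_one (F : MvPolynomial (Fin N) R) : sub 1 F = F := by
  conv_rhs => rw [← AlgHom.id_apply (R := R) F]
  congr 1
  ext i : 1
  simp [sub_X, Matrix.one_apply]

theorem sub_map {S : Type v} [CommRing S] (f : R →+* S) (M : Matrix (Fin N) (Fin N) R)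
    (F : MvPolynomial (Fin N) R) : MvPolynomial.map f (sub M F) = sub (M.map f) (MvPolynomial.map f F) := by
  induction F using MvPolynomial.induction_on with
  | C a => simp [sub]
  | add p q hp hq => simp only [map_add, hp, hq]
  | mul_X p i hp => simp only [map_mul, hp, map_X, sub_X, map_sum, map_C, Matrix.map_apply]

theorem eval_sub (M : Matrix (Fin N) (Fin N) R) (z : Fin N → R) (F : MvPolynomial (Fin N) R) :
    eval z (sub M F) = eval (M *ᵥ z) F := by
  change aeval z (sub M F) = aeval (M *ᵥ z) F
  rw [← AlgHom.comp_apply]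
  congr 1
  ext i : 1
  simp [sub_X, Matrix.mulVec, dotProduct]

theorem isHomogeneous_sub (M : Matrix (Fin N) (Fin N) R) {F : MvPolynomial (Fin N) R} {m : ℕ}
    (hF : F.IsHomogeneous m) : (sub M F).IsHomogeneous m := by
  have := hF.aeval (g := fun i => ∑ j, C (M i j) * X j) (n := 1)
    (fun i => IsHomogeneous.sum _ _ _ fun j _ => isHomogeneous_C_mul_X _ _)
  rwa [one_mul] at this

/-- The chain rule. -/
theorem pderiv_sub (M : Matrix (Fin N) (Fin N) R) (j : Fin N) (F : MvPolynomial (Fin N) R) :
    pderiv j (sub M F) = ∑ i, C (M i j) * sub M (pderiv i F) := by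
  classical
  induction F using MvPolynomial.induction_on with
  | C a => simp [sub]
  | add p q hp hq => simp only [map_add, hp, hq, mul_add, Finset.sum_add_distrib]
  | mul_X p l hp =>
    rw [map_mul, pderiv_mul, hp]
    have h1 : pderiv j (sub M (X l)) = C (M l j) := by
      simp [sub_X, pderiv_X, Pi.single_apply]
    rw [h1]
    simp only [pderiv_mul, map_add, map_mul, mul_add, Finset.sum_add_distrib, Finset.sum_mul, mul_assoc]
    congr 1
    rw [Finset.sum_eq_single l]
    · simp [mul_comm]
    · intro i _ hi; simp [pderiv_X_of_ne (Ne.symm hi)]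
    · intro h; exact absurd (Finset.mem_univ l) h

theorem coeff_sub_diagonal (d : Fin N → R) (F : MvPolynomial (Fin N) R) (e : Fin N →₀ ℕ) :
    coeff e (sub (Matrix.diagonal d) F) = coeff e F * ∏ i, d i ^ e i := by
  classical
  induction F using MvPolynomial.induction_on' with
  | monomial s c =>
    have h : sub (Matrix.diagonal d) (monomial s c) = monomial s (c * ∏ i, d i ^ s i) := by
      have hX : ∀ i, (∑ j, C (Matrix.diagonal d i j) * X j : MvPolynomial (Fin N) R) = C (d i) * X i :=
        fun i => by
          rw [Finset.sum_eq_single i] <;> simp +contextual [eq_comm]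
      rw [sub, aeval_monomial, Finsupp.prod_fintype _ _ (fun i => pow_zero _)]
      simp only [hX, mul_pow, Finset.prod_mul_distrib, ← map_pow, ← map_prod, MvPolynomial.algebraMap_eq]
      rw [← mul_assoc, ← map_mul, monomial_eq, Finsupp.prod_fintype _ _ (fun i => pow_zero _)]
    rw [h, coeff_monomial, coeff_monomial]
    split_ifs with hse
    · rw [hse]
    · rw [zero_mul]
  | add p q hp hq => simp only [map_add, coeff_add, hp, hq, add_mul]

end FormStabLib
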