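import Groth.Agent.FanoCodimLib.CommonZero

/-!
# The diagonal case: a nonsingular form cannot have all weights non-positive unless the weights are trivial
-/

universe u

namespace FormStabLib

open MvPolynomial

variable {N : ℕ}

/-- A form whose partial derivatives have no common nontrivial zero contains, for index sets `S`, `T`
with `|S| + |T| = N + 1`, a monomial `x_S^(m-1) x_j` with `j ∈ T`. -/
theorem exists_monomial {L : Type u} [Field L] [IsAlgClosed L] {m : ℕ} (hm : 2 ≤ m)
    (G : MvPolynomial (Fin N) L) (hG : G.IsHomogeneous m)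
    (hsm : ∀ z : Fin N → L, (∀ i, eval z (pderiv i G) = 0) → z = 0)
    (S T : Finset (Fin N)) (hST : S.card + T.card = N + 1) :
    ∃ e ∈ G.support, ∃ j ∈ T, 1 ≤ e j ∧ ∀ i, i ∉ S → (if i = j then e i - 1 else e i) = 0 := by
  classical
  by_contra hcon
  have hT : ∀ j ∈ T, ∀ z : Fin N → L, (∀ i, i ∉ S → z i = 0) → eval z (pderiv j G) = 0 := by
    intro j hj z hz
    rw [G.as_sum, map_sum, map_sum]
    refine Finset.sum_eq_zero fun e he => ?_
    rw [pderiv_monomial, eval_monomial]
    rcases Nat.eq_zero_or_pos (e j) with h | h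
    · simp [h]
    refine mul_eq_zero_of_right _ ?_
    by_contra hprod
    refine hcon ⟨e, he, j, hj, h, fun i hi => ?_⟩
    by_contra hne
    have hne' : (e - Finsupp.single j 1 : Fin N →₀ ℕ) i ≠ 0 := by
      rw [Finsupp.tsub_apply, Finsupp.single_apply]
      split_ifs at hne with hij
      · subst hij; simpa using hne
      · rw [if_neg (Ne.symm hij)]; simpa using hne
    refine hprod (Finset.prod_eq_zero (i := i) (Finsupp.mem_support_iff.2 hne') ?_)
    show z i ^ _ = 0
    rw [hz i hi, zero_pow hne']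
  obtain ⟨σ⟩ : Nonempty ({i : Fin N // i ∈ S} ≃ Fin S.card) := ⟨S.equivFin⟩
  obtain ⟨τ⟩ : Nonempty ({i : Fin N // i ∈ Tᶜ} ≃ Fin Tᶜ.card) := ⟨Tᶜ.equivFin⟩
  let r : Fin N → MvPolynomial (Fin S.card) L := fun i => if h : i ∈ S then X (σ ⟨i, h⟩) else 0
  have hr : ∀ (t : Fin S.card → L) (p : MvPolynomial (Fin N) L),
      eval t (aeval r p) = eval (fun i => if h : i ∈ S then t (σ ⟨i, h⟩) else 0) p := by
    intro t p
    change aeval t (aeval r p) = aeval _ p
    rw [← AlgHom.comp_apply]
    congr 1
    ext i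
    simp only [AlgHom.comp_apply, aeval_X, r]
    split_ifs with h <;> simp
  have hhom : ∀ j, eval (0 : Fin N → L) (pderiv j G) = 0 := by
    intro j
    rw [eval_zero, constantCoeff_eq]
    exact (hG.pderiv (i := j)).coeff_eq_zero (by simp; omega)
  have hcard : Tᶜ.card < S.card := by
    have h1 : Tᶜ.card = Fintype.card (Fin N) - T.card := Finset.card_compl T
    rw [Fintype.card_fin] at h1
    have := Finset.card_le_univ T
    rw [Fintype.card_fin] at this
    omega
  obtain ⟨t, ht0, ht⟩ := FanoCodimLib.exists_other_zero hcard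
    (fun s => aeval r (pderiv ((τ.symm s).1) G)) (fun s => by
      rw [hr]
      have : (fun i : Fin N => if h : i ∈ S then (0 : Fin S.card → L) (σ ⟨i, h⟩) else 0) = 0 := by
        funext i; split_ifs <;> simp
      rw [this]
      exact hhom _)
  let z : Fin N → L := fun i => if h : i ∈ S then t (σ ⟨i, h⟩) else 0
  have hz : z = 0 := by
    refine hsm z fun i => ?_
    by_cases hi : i ∈ T
    · exact hT i hi z fun l hl => by simp [z, hl]
    · have hi' : i ∈ Tᶜ := Finset.mem_compl.2 hi
      have := ht (τ ⟨i, hi'⟩)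
      rw [hr, Equiv.symm_apply_apply] at this
      exact this
  refine ht0 (funext fun s => ?_)
  have := congrFun hz (σ.symm s).1
  simpa [z] using this

/-- Weights of product one that are `≤ 1` on every monomial of a nonsingular form of degree at least
three are trivial. -/
theorem weights_eq_one {L : Type u} [Field L] [IsAlgClosed L] {m : ℕ} (hm : 3 ≤ m)
    (G : MvPolynomial (Fin N) L) (hG : G.IsHomogeneous m)
    (hsm : ∀ z : Fin N → L, (∀ i, eval z (pderiv i G) = 0) → z = 0)
    {Γ : Type*} [LinearOrderedCommGroupWithZero Γ] (w : Fin N → Γ) (hprod : ∏ i, w i = 1)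
    (hw : ∀ e ∈ G.support, ∏ i, w i ^ e i ≤ 1) : ∀ i, w i = 1 := by
  classical
  let σ : Equiv.Perm (Fin N) := Tuple.sort (fun i => OrderDual.toDual (w i))
  have hσ : ∀ s s' : Fin N, s ≤ s' → w (σ s') ≤ w (σ s) := fun s s' h =>
    Tuple.monotone_sort (fun i => OrderDual.toDual (w i)) h
  have key : ∀ s : Fin N, w (σ s) ^ (m - 1) * w (σ s.rev) ≤ 1 := by
    intro s
    let S := (Finset.Iic s).map σ.toEmbedding
    let T := (Finset.Iic s.rev).map σ.toEmbedding
    have hcard : S.card + T.card = N + 1 := by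
      simp only [S, T, Finset.card_map, Fin.card_Iic, Fin.val_rev]
      omega
    obtain ⟨e, he, j, hj, hej, hsupp⟩ := exists_monomial (by omega) G hG hsm S T hcard
    have hdeg : ∑ i, e i = m := by
      rw [← Finsupp.degree_eq_sum]
      have := hG (mem_support_iff.1 he)
      rwa [Finsupp.degree_eq_weight_one]
    have hwS : ∀ i ∈ S, w (σ s) ≤ w i := by
      intro i hi
      obtain ⟨l, hl, rfl⟩ := Finset.mem_map.1 hi
      exact hσ _ _ (Finset.mem_Iic.1 hl)
    have hwT : w (σ s.rev) ≤ w j := by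
      obtain ⟨l, hl, rfl⟩ := Finset.mem_map.1 hj
      exact hσ _ _ (Finset.mem_Iic.1 hl)
    let f : Fin N → ℕ := fun i => if i = j then e i - 1 else e i
    have hsum : ∑ i, f i = m - 1 := by
      rw [← Finset.add_sum_erase _ _ (Finset.mem_univ j)] at hdeg
      rw [← Finset.add_sum_erase _ _ (Finset.mem_univ j)]
      have h1 : f j = e j - 1 := if_pos rfl
      have h2 : ∑ i ∈ Finset.univ.erase j, f i = ∑ i ∈ Finset.univ.erase j, e i :=
        Finset.sum_congr rfl fun i hi => if_neg (Finset.ne_of_mem_erase hi)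
      rw [h1, h2]
      clear_value f
      omega
    have hsplit : ∏ i, w i ^ e i = (∏ i, w i ^ f i) * w j := by
      rw [← Finset.mul_prod_erase _ _ (Finset.mem_univ j),
        ← Finset.mul_prod_erase _ (fun i => w i ^ f i) (Finset.mem_univ j)]
      simp only [f, if_true]
      rw [Finset.prod_congr rfl (fun i hi => by rw [if_neg (Finset.ne_of_mem_erase hi)] :
        ∀ i ∈ Finset.univ.erase j, w i ^ (if i = j then e i - 1 else e i) = w i ^ e i)]
      rw [mul_right_comm, ← pow_succ, Nat.sub_add_cancel hej]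
    calc w (σ s) ^ (m - 1) * w (σ s.rev) ≤ (∏ i, w i ^ f i) * w j := by
          refine mul_le_mul' ?_ hwT
          rw [← hsum, ← Finset.prod_pow_eq_pow_sum]
          refine Finset.prod_le_prod' fun i _ => ?_
          by_cases hi : i ∈ S
          · exact pow_le_pow_left' (hwS i hi) _
          · have : f i = 0 := hsupp i hi
            simp [this]
      _ = ∏ i, w i ^ e i := hsplit.symm
      _ ≤ 1 := hw e he
  have hall : ∀ s : Fin N, w (σ s) ^ (m - 1) * w (σ s.rev) = 1 := by
    intro s
    refine le_antisymm (key s) ?_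
    have h1 : ∏ s : Fin N, (w (σ s) ^ (m - 1) * w (σ s.rev)) = 1 := by
      rw [Finset.prod_mul_distrib, Finset.prod_pow]
      have h2 : ∏ s : Fin N, w (σ s) = 1 := (Equiv.prod_comp σ w).trans hprod
      have h3 : ∏ s : Fin N, w (σ s.rev) = 1 := by
        rw [← h2]; exact Equiv.prod_comp Fin.revPerm (fun s => w (σ s))
      rw [h2, h3, one_pow, one_mul]
    calc (1 : Γ) = _ := h1.symm
      _ = _ := (Finset.mul_prod_erase _ _ (Finset.mem_univ s)).symm
      _ ≤ (w (σ s) ^ (m - 1) * w (σ s.rev)) * 1 :=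
          mul_le_mul' le_rfl (Finset.prod_le_one' fun i _ => key i)
      _ = _ := mul_one _
  have h0 : ∀ s : Fin N, w (σ s) = 1 := by
    intro s
    obtain ⟨q, hq⟩ : ∃ q, m - 1 = q + 2 := ⟨m - 3, by omega⟩
    have h1 := hall s
    have h2 := hall s.rev
    rw [Fin.rev_rev, hq] at h2
    rw [hq] at h1
    have h3 : w (σ s) ^ ((q + 2) * (q + 2)) = w (σ s) := by
      rw [pow_mul]
      have e1 : w (σ s) ^ (q + 2) = (w (σ s.rev))⁻¹ := eq_inv_of_mul_eq_one_left h1
      have e2 : w (σ s.rev) ^ (q + 2) = (w (σ s))⁻¹ := eq_inv_of_mul_eq_one_left h2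
      rw [e1, inv_pow, e2, inv_inv]
    have hne : w (σ s) ≠ 0 := fun h => by simp [h] at h1
    have h4 : w (σ s) ^ ((q + 2) * (q + 2) - 1) = 1 := by
      rw [← Nat.sub_add_cancel (show 1 ≤ (q + 2) * (q + 2) by nlinarith), pow_succ] at h3
      exact mul_eq_right₀ hne |>.1 h3
    refine (pow_eq_one_iff.1 h4).resolve_right ?_
    have : 4 ≤ (q + 2) * (q + 2) := by nlinarith
    omega
  intro i
  simpa using h0 (σ.symm i)

end FormStabLib
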