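import Groth.Agent.FormStabLib.Valuative
import Groth.Agent.FormStabLib.Weights
import Groth.Agent.FormStabLib.Subst

/-!
# Substitutions keeping a nonsingular form integral are integral
-/

universe u v

namespace FormStabLib

open MvPolynomial Matrix

variable {k : Type u} [Field k] [IsAlgClosed k] {N m : ℕ}

/-- No choice of coordinates and of weights makes all monomials of `F` have weight `≤ 1`, except the
trivial weights: the numerical condition of stability. -/
def NoDestab (F : MvPolynomial (Fin N) k) : Prop :=
  ∀ M : Matrix (Fin N) (Fin N) k, M.det = 1 →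
    ∀ (Γ : Type u) [LinearOrderedCommGroupWithZero Γ] (w : Fin N → Γ), ∏ i, w i = 1 →
      (∀ e ∈ (sub M F).support, ∏ i, w i ^ e i ≤ 1) → ∀ i, w i = 1

/-- Multiplying a substitution by a scalar multiplies the coefficients of a form by a power of it. -/
theorem coeff_sub_smul {R : Type*} [CommRing R] {m : ℕ} {F : MvPolynomial (Fin N) R} (hF : F.IsHomogeneous m)
    (c : R) (M : Matrix (Fin N) (Fin N) R) (e : Fin N →₀ ℕ) :
    coeff e (sub (c • M) F) = coeff e (sub M F) * c ^ m := by
  rw [show c • M = M * Matrix.diagonal (fun _ => c) by ext i j; simp [mul_comm], sub_mul, coeff_sub_diagonal,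
    Finset.prod_pow_eq_pow_sum]
  by_cases h : coeff e (sub M F) = 0
  · simp [h]
  · rw [← Finsupp.degree_eq_sum, Finsupp.degree_eq_weight_one]
    exact congrArg _ (congrArg (c ^ ·) (isHomogeneous_sub M hF h))

/-- A change of coordinates over a larger field killing given coefficients has a model over `k`. -/
theorem exists_descend {L : Type v} [Field L] (ι : k →+* L) (F : MvPolynomial (Fin N) k)
    (Z : Set (Fin N →₀ ℕ)) (M : Matrix (Fin N) (Fin N) L) (hM : M.det = 1)
    (hZ : ∀ e ∈ Z, coeff e (sub M (MvPolynomial.map ι F)) = 0) :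
    ∃ M' : Matrix (Fin N) (Fin N) k, M'.det = 1 ∧ ∀ e ∈ Z, coeff e (sub M' F) = 0 := by
  classical
  let S := MvPolynomial (Fin N × Fin N) k
  let X₀ : Matrix (Fin N) (Fin N) S := Matrix.of fun i j => X (i, j)
  let I : Ideal S := Ideal.span
    ((fun e => coeff e (sub X₀ (MvPolynomial.map C F))) '' Z ∪ {X₀.det - 1})
  have hI : I ≠ ⊤ := fun h => by
    have h1 : I ≤ RingHom.ker (eval₂Hom ι fun p : Fin N × Fin N => M p.1 p.2) := by
      rw [Ideal.span_le]
      have hX : X₀.map (eval₂Hom ι fun p : Fin N × Fin N => M p.1 p.2) = M := by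
        ext i j; simp [X₀]
      rintro x (⟨e, he, rfl⟩ | rfl)
      · rw [SetLike.mem_coe, RingHom.mem_ker, ← coeff_map, sub_map, hX, MvPolynomial.map_map]
        have : (eval₂Hom ι fun p : Fin N × Fin N => M p.1 p.2).comp C = ι := by ext c; simp
        rw [this]
        exact hZ e he
      · rw [SetLike.mem_coe, RingHom.mem_ker, map_sub, map_one, RingHom.map_det, RingHom.mapMatrix_apply, hX, hM,
          sub_self]
    have := h1 (h ▸ (Submodule.mem_top : (1 : S) ∈ ⊤))
    simp at this
  have hne : (zeroLocus k I).Nonempty := by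
    rw [Set.nonempty_iff_ne_empty]
    intro h
    apply hI
    have h2 := vanishingIdeal_zeroLocus_eq_radical (K := k) I
    rw [h, vanishingIdeal_empty] at h2
    exact Ideal.radical_eq_top.1 h2.symm
  obtain ⟨x, hx⟩ := hne
  let M' : Matrix (Fin N) (Fin N) k := Matrix.of fun i j => x (i, j)
  have hX : X₀.map (eval x) = M' := by ext i j; simp [X₀, M']
  refine ⟨M', ?_, fun e he => ?_⟩
  · have := hx (X₀.det - 1) (Ideal.subset_span (Or.inr rfl))
    rw [MvPolynomial.aeval_eq_eval, map_sub, map_one, RingHom.map_det, RingHom.mapMatrix_apply, hX] at this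
    exact sub_eq_zero.1 this
  · have := hx _ (Ideal.subset_span (Or.inl ⟨e, he, rfl⟩))
    rw [MvPolynomial.aeval_eq_eval, ← coeff_map, sub_map, hX, MvPolynomial.map_map] at this
    have h3 : (eval x).comp (C : k →+* S) = RingHom.id k := by ext c; simp
    rwa [h3, MvPolynomial.map_id] at this

/-- The condition `NoDestab` persists over extension fields. -/
theorem NoDestab.over {F : MvPolynomial (Fin N) k} (h : NoDestab F) {m : ℕ} (hF : F.IsHomogeneous m)
    {L : Type v} [Field L] [IsAlgClosed L] (ι : k →+* L) (M : Matrix (Fin N) (Fin N) L) (hM : IsUnit M.det)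
    {Γ : Type u} [LinearOrderedCommGroupWithZero Γ] (w : Fin N → Γ) (hprod : ∏ i, w i = 1)
    (hw : ∀ e ∈ (sub M (MvPolynomial.map ι F)).support, ∏ i, w i ^ e i ≤ 1) : ∀ i, w i = 1 := by
  classical
  rcases Nat.eq_zero_or_pos N with hN | hN
  · subst hN; exact fun i => i.elim0
  obtain ⟨c, hc⟩ := IsAlgClosed.exists_pow_nat_eq M.det⁻¹ hN
  let Z : Set (Fin N →₀ ℕ) := {e | ¬ ∏ i, w i ^ e i ≤ 1}
  obtain ⟨M', hM', hZ⟩ := exists_descend ι F Z (c • M)
    (by rw [Matrix.det_smul, Fintype.card_fin, hc, inv_mul_cancel₀ hM.ne_zero]) (fun e he => by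
      rw [coeff_sub_smul (hF.map ι)]
      rw [notMem_support_iff.1 fun he' => he (hw e he'), zero_mul])
  refine h M' hM' Γ w hprod fun e he => ?_
  by_contra hcon
  exact (mem_support_iff.1 he) (hZ e hcon)

/-- If substituting a matrix of determinant one over `K` into a form satisfying `NoDestab` gives
coefficients in a valuation subring, then the matrix has entries there. -/
theorem entries_mem {K : Type u} [Field K] (V : ValuationSubring K) (ι : k →+* V)
    {F : MvPolynomial (Fin N) k} (hnd : NoDestab F) (hF : F.IsHomogeneous m)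
    (g : Matrix (Fin N) (Fin N) K) (hg : g.det = 1)
    (hint : ∀ e, coeff e (sub g (MvPolynomial.map (V.subtype.comp ι) F)) ∈ V) :
    ∀ i j, g i j ∈ V := by
  classical
  obtain ⟨u, v, d, hu, hv, hguv⟩ := exists_diag V N g
  let FV := MvPolynomial.map ι F
  let G := sub u FV
  obtain ⟨H, hH⟩ : ∃ H : MvPolynomial (Fin N) V, MvPolynomial.map V.subtype H =
      sub g (MvPolynomial.map (V.subtype.comp ι) F) := by
    refine ⟨∑ e ∈ (sub g (MvPolynomial.map (V.subtype.comp ι) F)).support,
      monomial e ⟨_, hint e⟩, ?_⟩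
    rw [map_sum]
    simp only [map_monomial]
    exact ((sub g (MvPolynomial.map (V.subtype.comp ι) F)).as_sum).symm
  have hcoef : ∀ e, coeff e (MvPolynomial.map V.subtype G) * ∏ i, d i ^ e i ∈ V := by
    intro e
    rw [← coeff_sub_diagonal]
    have h1 : sub (Matrix.diagonal d) (MvPolynomial.map V.subtype G) =
        MvPolynomial.map V.subtype (sub v⁻¹ H) := by
      rw [sub_map V.subtype v⁻¹ H, hH, hguv, sub_map, ← MvPolynomial.map_map]
      simp only [FV, ← sub_mul]
      rw [Matrix.mul_assoc (u.map V.subtype * Matrix.diagonal d), ← Matrix.map_mul,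
        Matrix.mul_nonsing_inv _ hv, Matrix.map_one _ (map_zero _) (map_one _), Matrix.mul_one]
    rw [h1, coeff_map]
    exact SetLike.coe_mem _
  let w : Fin N → V.ValueGroup := fun i => V.valuation (d i)
  have hprod : ∏ i, w i = 1 := by
    have h1 : V.subtype u.det * (∏ i, d i) * V.subtype v.det = 1 := by
      rw [RingHom.map_det, RingHom.map_det, ← Matrix.det_diagonal, ← Matrix.det_mul, ← Matrix.det_mul]
      exact hguv ▸ hg
    have h2 : ∀ a : V, IsUnit a → V.valuation (V.subtype a) = 1 := fun a ha =>
      (V.valuation_eq_one_iff a).1 ha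
    have := congrArg V.valuation h1
    rw [map_mul, map_mul, h2 _ hu, h2 _ hv, one_mul, mul_one, map_one, map_prod] at this
    exact this
  -- reduction to the residue field
  let L := AlgebraicClosure (IsLocalRing.ResidueField V)
  let res : V →+* L := (algebraMap (IsLocalRing.ResidueField V) L).comp (IsLocalRing.residue V)
  have hGL : MvPolynomial.map res G = sub (u.map res) (MvPolynomial.map (res.comp ι) F) := by
    rw [← MvPolynomial.map_map ι res]
    exact sub_map res u FV
  have hudet : IsUnit (u.map res).det := by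
    rw [show (u.map res).det = res u.det from (RingHom.map_det res u).symm]
    exact hu.map res
  have hone : ∀ i, w i = 1 := by
    refine hnd.over hF (res.comp ι) (u.map res) hudet w hprod fun e he => ?_
    rw [← hGL] at he
    have hne : res (coeff e G) ≠ 0 := by
      have := mem_support_iff.1 he
      rwa [coeff_map] at this
    have hunit : IsUnit (coeff e G) := by
      by_contra hnu
      apply hne
      have : IsLocalRing.residue V (coeff e G) = 0 := by
        rw [IsLocalRing.residue_eq_zero_iff]; exact (IsLocalRing.mem_maximalIdeal _).2 hnu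
      simp [res, this]
    have := (V.valuation_le_one_iff _).2 (hcoef e)
    rw [map_mul, coeff_map] at this
    rw [show V.valuation (V.subtype (coeff e G)) = 1 from (V.valuation_eq_one_iff _).1 hunit,
      one_mul, map_prod] at this
    simpa [w, map_pow] using this
  have hd : ∀ i, d i ∈ V := fun i => (V.valuation_le_one_iff _).1 (le_of_eq (hone i))
  intro i j
  have : g = (u * Matrix.diagonal (fun l => (⟨d l, hd l⟩ : V)) * v).map V.subtype := by
    rw [Matrix.map_mul, Matrix.map_mul, Matrix.diagonal_map (map_zero _)]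
    exact hguv
  rw [this]
  exact SetLike.coe_mem _

/-- Nonsingular forms of degree at least three satisfy `NoDestab`. -/
theorem noDestab_of_smooth (hm : 3 ≤ m) {F : MvPolynomial (Fin N) k} (hF : F.IsHomogeneous m)
    (hsm : ∀ w : Fin N → k, w ≠ 0 → ∃ i, eval w (pderiv i F) ≠ 0) : NoDestab F := by
  classical
  intro M hM Γ _ w hprod hw
  refine weights_eq_one hm (sub M F) (isHomogeneous_sub M hF) (fun z hz => ?_) w hprod hw
  let w' : Fin N → k := fun i => eval (M *ᵥ z) (pderiv i F)
  have h1 : w' ᵥ* M = 0 := funext fun j => by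
    have := hz j
    rw [pderiv_sub, map_sum] at this
    simp only [map_mul, eval_C, eval_sub] at this
    rw [Pi.zero_apply, ← this]
    simp only [Matrix.vecMul, dotProduct, w']
    exact Finset.sum_congr rfl fun i _ => mul_comm _ _
  have hw' : w' = 0 := by
    by_contra hne
    have := Matrix.exists_vecMul_eq_zero_iff.1 ⟨w', hne, h1⟩
    simp [hM] at this
  have hMz : M *ᵥ z = 0 := by
    by_contra hne
    obtain ⟨i, hi⟩ := hsm _ hne
    exact hi (congrFun hw' i)
  by_contra hne
  have := Matrix.exists_mulVec_eq_zero_iff.1 ⟨z, hne, hMz⟩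
  simp [hM] at this

end FormStabLib
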