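import Groth.Agent.FormStabLib.Stable

/-!
# Destabilising weights prevent stability
-/

universe u

noncomputable section

open TensorProduct MvPolynomial

namespace FormStabLib

open CoordGrp

variable {k : Type u} [Field k] {N m : ℕ}

/-- A point of `SL_N` moves a form by substitution. -/
theorem pt_orbitHom_X (a : FormIdx N m → k) (H : Matrix (Fin N) (Fin N) k) (hH : H.det = 1) (l : FormIdx N m) :
    SLn.pt N k H hH
      (@GLin.orbitHom k _ (SLn N k) _ _ (MvPolynomial (FormIdx N m) k) _ _ (GLin.comodAlong (slHom k N) (formsCoact k N m))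
        (GLin.isCoactAlg_comodAlong (slHom k N) (formsCoact k N m) (formsCoact_isCoactAlg k N m))
        (GLin.vecPt k (FormIdx N m) a) (X l)) =
      ∑ e : FormIdx N m, a e * coeff e.1 (colPow H l) := by
  rw [orbitHom_X, map_sum]
  refine Finset.sum_congr rfl fun e _ => ?_
  rw [map_smul, smul_eq_mul]
  congr 1
  have h := map_formCoeff ((SLn.pt N k H hH).comp (slHom k N : Mat N k →ₐ[k] SLn N k)) e l
  rw [AlgHom.comp_apply] at h
  refine h.trans ?_
  congr 2
  ext i j
  change SLn.pt N k H hH (slHom k N (Mat.X i j)) = H i j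
  rw [show slHom k N (Mat.X i j) = SLn.X i j from congrArg (SLn.mk N k) (Mat.toGLn_X i j)]
  exact SLn.pt_X H hH i j

/-- The form of the moved point. -/
theorem coeff_moved (a : FormIdx N m → k) (H : Matrix (Fin N) (Fin N) k) (l : FormIdx N m) :
    (l.1.multinomial : k) * ∑ e : FormIdx N m, a e * coeff e.1 (colPow H l) = coeff l.1 (sub H (formPoly a)) := by
  classical
  rw [sub_formPoly, coeff_sum]
  symm
  rw [Finset.sum_eq_single l]
  · rw [coeff_monomial, if_pos rfl]
  · intro l' _ hl'
    rw [coeff_monomial, if_neg fun h => hl' (Subtype.ext h)]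
  · intro h; exact absurd (Finset.mem_univ l) h

/-- A finite stabiliser scheme has finitely many points. -/
theorem finite_points {A : Type u} [CommRing A] [Algebra k A] (I : Ideal A) [Module.Finite k (A ⧸ I)] :
    Finite {χ : A →ₐ[k] k // ∀ f ∈ I, χ f = 0} :=
  Finite.of_injective (fun χ => Ideal.Quotient.liftₐ I χ.1 χ.2) fun _ _ h =>
    Subtype.ext (AlgHom.ext fun f => congrArg (fun q : A ⧸ I →ₐ[k] k => q (Ideal.Quotient.mk I f)) h)

theorem root_injective_aux (H : Matrix (Fin N) (Fin N) k) (hH : H.det = 1)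
    (root : {s : k // s ≠ 0} → k) (r : Fin N → ℤ) (i0 : Fin N) (hroot : ∀ s, root s ^ (-r i0) = s.1)
    (s s' : {s : k // s ≠ 0})
    (h : ∀ i j, (H * Matrix.diagonal (fun i => root s ^ (-r i)) * H.adjugate) i j =
      (H * Matrix.diagonal (fun i => root s' ^ (-r i)) * H.adjugate) i j) : s = s' := by
  have h1 := congrArg (fun Y => H.adjugate * Y * H) (Matrix.ext h)
  simp only [Matrix.mul_assoc, Matrix.adjugate_mul, hH, one_smul, Matrix.mul_one] at h1
  simp only [← Matrix.mul_assoc, Matrix.adjugate_mul, hH, one_smul, Matrix.one_mul] at h1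
  have h2 := congrFun (congrFun h1 i0) i0
  simp only [Matrix.diagonal_apply_eq, hroot] at h2
  exact Subtype.ext h2

variable [IsAlgClosed k]

/-- Weights under which every monomial of the form is non-positive prevent stability. -/
theorem not_isStableVec_of_weights (hmult : ∀ l : FormIdx N m, (l.1.multinomial : k) ≠ 0) (a : FormIdx N m → k)
    (M : Matrix (Fin N) (Fin N) k) (hM : M.det = 1) (r : Fin N → ℤ) (hr0 : ∑ i, r i = 0) (hr : r ≠ 0)
    (hw : ∀ e ∈ (sub M (formPoly a)).support, ∑ i, (e i : ℤ) * r i ≤ 0) :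
    ¬ @GLin.IsStableVec k _ (SLn N k) _ _ (FormIdx N m) (GLin.comodAlong (slHom k N) (formsCoact k N m))
      (GLin.isCoactAlg_comodAlong (slHom k N) (formsCoact k N m) (formsCoact_isCoactAlg k N m)) a := by
  classical
  let := GLin.comodAlong (slHom k N) (formsCoact k N m)
  have := GLin.isCoactAlg_comodAlong (slHom k N) (formsCoact k N m) (formsCoact_isCoactAlg k N m)
  rintro ⟨hclosed, hfin⟩
  set x := GLin.vecPt k (FormIdx N m) a with hx
  set φ := GLin.orbitHom k (SLn N k) x with hφ
  have hmove : ∀ (H : Matrix (Fin N) (Fin N) k) (hH : H.det = 1) (l : FormIdx N m),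
      (l.1.multinomial : k) * SLn.pt N k H hH (φ (X l)) = coeff l.1 (sub H (formPoly a)) := fun H hH l => by
    rw [hφ, hx, pt_orbitHom_X, coeff_moved]
  let D : k → Matrix (Fin N) (Fin N) k := fun t => Matrix.diagonal fun i => t ^ (-r i)
  have hzprod : ∀ (f : Fin N → ℤ) (t : k), t ≠ 0 → ∏ i, t ^ f i = t ^ ∑ i, f i := fun f t ht => by
    induction (Finset.univ : Finset (Fin N)) using Finset.induction_on with
    | empty => simp
    | insert i s hi ih => rw [Finset.prod_insert hi, Finset.sum_insert hi, zpow_add₀ ht, ih]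
  have hD : ∀ t : k, t ≠ 0 → (D t).det = 1 := fun t ht => by
    rw [Matrix.det_diagonal, hzprod _ t ht, Finset.sum_neg_distrib, hr0, neg_zero, zpow_zero]
  let n : FormIdx N m → ℤ := fun l => -∑ i, (l.1 i : ℤ) * r i
  have hpow : ∀ (l : FormIdx N m) (t : k), t ≠ 0 → ∏ i, (t ^ (-r i)) ^ l.1 i = t ^ n l := fun l t ht => by
    simp only [← zpow_natCast, ← zpow_mul]
    rw [hzprod _ t ht]
    simp [n, mul_comm]
  let β : FormIdx N m → k := fun l => coeff l.1 (sub M (formPoly a)) / (l.1.multinomial : k)
  have hn : ∀ l, β l ≠ 0 → 0 ≤ n l := fun l hl => neg_nonneg.2 (hw l.1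
    (mem_support_iff.2 fun h => hl (by simp [β, h])))
  let P : MvPolynomial (FormIdx N m) k →ₐ[k] Polynomial k :=
    MvPolynomial.aeval fun l => Polynomial.C (β l) * Polynomial.X ^ (n l).toNat
  have hP : ∀ (t : k) (ht : t ≠ 0),
      (Polynomial.aeval t).comp P = (SLn.pt N k (M * D t) (by rw [Matrix.det_mul, hM, hD t ht, one_mul])).comp φ := by
    intro t ht
    ext l
    have h1 := hmove (M * D t) (by rw [Matrix.det_mul, hM, hD t ht, one_mul]) l
    rw [sub_mul, coeff_sub_diagonal, hpow l t ht] at h1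
    have h2 : β l * t ^ (n l).toNat = β l * t ^ n l := by
      rcases eq_or_ne (β l) 0 with h | h
      · simp [h]
      · rw [← zpow_natCast, Int.toNat_of_nonneg (hn l h)]
    simp only [AlgHom.comp_apply, P, MvPolynomial.aeval_X, map_mul, map_pow, Polynomial.aeval_C,
      Polynomial.aeval_X, Algebra.algebraMap_self, RingHom.id_apply]
    rw [h2]
    refine mul_left_cancel₀ (hmult l) ?_
    rw [h1, ← mul_assoc, mul_div_cancel₀ _ (hmult l)]
  -- the limit
  let y : FormIdx N m → k := fun l => if n l = 0 then β l else 0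
  have hy : (Polynomial.aeval (0 : k)).comp P = GLin.vecPt k (FormIdx N m) y := by
    ext l
    simp only [AlgHom.comp_apply, P, MvPolynomial.aeval_X, map_mul, map_pow, Polynomial.aeval_C,
      Polynomial.aeval_X, Algebra.algebraMap_self, RingHom.id_apply, y]
    split_ifs with h
    · simp [h]
    · rcases eq_or_ne (β l) 0 with hb | hb
      · simp [hb]
      · have : (n l).toNat ≠ 0 := by have := hn l hb; omega
        simp [zero_pow this]
  have hker : RingHom.ker φ.toRingHom ≤ RingHom.ker (GLin.vecPt k (FormIdx N m) y) := by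
    intro f hf
    rw [RingHom.mem_ker] at hf ⊢
    rw [← hy]
    have h0 : P f = 0 := by
      refine Polynomial.eq_zero_of_infinite_isRoot _ (Set.Infinite.mono (s := {t : k | t ≠ 0}) ?_ ?_)
      · intro t (ht : t ≠ 0)
        have := congrArg (fun ψ => ψ f) (hP t ht)
        simp only [AlgHom.comp_apply] at this
        rw [Set.mem_ofPred_eq, Polynomial.IsRoot, ← Polynomial.coe_aeval_eq_eval, this]
        rw [show φ f = 0 from hf, map_zero]
      · exact Set.Finite.infinite_compl (Set.finite_singleton (0 : k))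
    simp [h0]
  let my : PrimeSpectrum (MvPolynomial (FormIdx N m) k) :=
    ⟨RingHom.ker (GLin.vecPt k (FormIdx N m) y), RingHom.ker_isPrime _⟩
  have hmymax : my.asIdeal.IsMaximal :=
    RingHom.ker_isMaximal_of_surjective _ fun c => ⟨C c, aeval_C _ c⟩
  have hmem : my ∈ Set.range (PrimeSpectrum.comap φ.toRingHom) := by
    rw [← hclosed.closure_eq, PrimeSpectrum.closure_range_comap]
    exact hker
  obtain ⟨Q, hQ⟩ := hmem
  obtain ⟨Q', hQ', hle⟩ := Ideal.exists_le_maximal Q.asIdeal Q.2.ne_top
  have hft : Algebra.FiniteType k (SLn N k) := ⟨⟨(Set.finite_range fun p : Fin N × Fin N =>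
    (SLn.X p.1 p.2 : SLn N k)).toFinset, by rw [Set.Finite.coe_toFinset]; exact sln_adjoin_top⟩⟩
  let := Ideal.Quotient.field Q'
  have : Algebra.FiniteType k (SLn N k ⧸ Q') := hft.of_surjective (Ideal.Quotient.mkₐ k Q') Ideal.Quotient.mk_surjective
  have : Module.Finite k (SLn N k ⧸ Q') := finite_of_finite_type_of_isJacobsonRing k _
  let e := AlgEquiv.ofBijective (Algebra.ofId k (SLn N k ⧸ Q'))
    (IsAlgClosed.algebraMap_bijective_of_isIntegral (k := k) (K := SLn N k ⧸ Q'))
  let h : SLn N k →ₐ[k] k := e.symm.toAlgHom.comp (Ideal.Quotient.mkₐ k Q')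
  let H : Matrix (Fin N) (Fin N) k := fun i j => h (SLn.X i j)
  have hH : H.det = 1 := by
    have h1 : H = ((h.comp (SLn.mk N k)).mapMatrix (GLn.genMat N k)) := by ext i j; rfl
    rw [h1, ← AlgHom.map_det, ← GLn.det_eq, AlgHom.comp_apply, SLn.det_eq_one, map_one]
  have hpt : SLn.pt N k H hH = h := by
    refine SLn.algHom_ext (fun i j => SLn.pt_X H hH i j) ?_
    have h1 : SLn.mk N k (GLn.Dinv : GLn N k) = 1 := by
      have := congrArg (SLn.mk N k) (GLn.Dinv_mul_det (n := N) (k := k))
      rwa [map_mul, SLn.det_eq_one, mul_one, map_one] at this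
    rw [h1, map_one, map_one]
  have hHy : ∀ l, SLn.pt N k H hH (φ (X l)) = y l := by
    intro l
    have h1 : X l - C (y l) ∈ my.asIdeal := by
      simp [my, RingHom.mem_ker]
    have h2 : φ (X l - C (y l)) ∈ Q' := by
      refine hle ?_
      rw [← hQ] at h1
      exact h1
    rw [hpt]
    have h3 : h (φ (X l - C (y l))) = 0 := by
      simp only [h, AlgHom.comp_apply, Ideal.Quotient.mkₐ_eq_mk, Ideal.Quotient.eq_zero_iff_mem.2 h2, map_zero]
    rwa [map_sub, map_sub, ← MvPolynomial.algebraMap_eq, φ.commutes, h.commutes, Algebra.algebraMap_self,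
      RingHom.id_apply, sub_eq_zero] at h3
  -- the stabiliser of the limit, moved back, stabilises `a`
  have hfix : ∀ t : k, t ≠ 0 → sub (H * D t * H.adjugate) (formPoly a) = formPoly a := by
    intro t ht
    have h1 : ∀ e, coeff e (sub (D t) (sub H (formPoly a))) = coeff e (sub H (formPoly a)) := by
      intro e
      rw [coeff_sub_diagonal]
      by_cases he : coeff e (sub H (formPoly a)) = 0
      · simp [he]
      · have hd : e.degree = m := by
          rw [Finsupp.degree_eq_weight_one]
          exact isHomogeneous_sub H (formPoly_isHomogeneous a) he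
        have h2 := hmove H hH ⟨e, hd⟩
        rw [hHy] at h2
        have h3 : n ⟨e, hd⟩ = 0 := by
          by_contra hne
          exact he (by rw [← h2]; simp [y, hne])
        rw [hpow ⟨e, hd⟩ t ht, h3, zpow_zero, mul_one]
    rw [sub_mul, sub_mul, MvPolynomial.ext _ _ h1, ← sub_mul, Matrix.mul_adjugate, hH, one_smul, sub_one]
  set I := GLin.stabIdeal k (SLn N k) x with hI
  have : Module.Finite k (SLn N k ⧸ I) := hfin
  have hdetG : ∀ t : k, t ≠ 0 → (H * D t * H.adjugate).det = 1 := fun t ht => by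
    rw [Matrix.det_mul, Matrix.det_mul, hH, hD t ht, Matrix.det_adjugate, hH, one_pow, one_mul, one_mul]
  have hkill : ∀ (t : k) (ht : t ≠ 0), ∀ f ∈ I, SLn.pt N k _ (hdetG t ht) f = 0 := by
    intro t ht f hf
    have h1 : (SLn.pt N k _ (hdetG t ht)).comp φ = x := by
      ext l
      refine mul_left_cancel₀ (hmult l) ?_
      rw [AlgHom.comp_apply, hmove, hfix t ht, coeff_formPoly, hx, MvPolynomial.aeval_X]
    have h2 : I ≤ RingHom.ker (SLn.pt N k _ (hdetG t ht)) := by
      rw [hI, GLin.stabIdeal, Ideal.map_le_iff_le_comap]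
      intro g hg
      rw [Ideal.mem_comap, RingHom.mem_ker]
      rw [← AlgHom.comp_apply, h1]
      exact hg
    exact h2 hf
  obtain ⟨i0, hi0⟩ : ∃ i, r i < 0 := by
    by_contra hcon
    push Not at hcon
    exact hr (funext fun i => (Finset.sum_eq_zero_iff_of_nonneg fun j _ => hcon j).1 hr0 i (Finset.mem_univ i))
  let root : {s : k // s ≠ 0} → k := fun s =>
    (IsAlgClosed.exists_pow_nat_eq s.1 (n := (-r i0).toNat) (by omega)).choose
  have hroot : ∀ s, root s ^ (-r i0) = s.1 := fun s => by
    rw [← Int.toNat_of_nonneg (show 0 ≤ -r i0 by omega), zpow_natCast]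
    exact (IsAlgClosed.exists_pow_nat_eq s.1 (n := (-r i0).toNat) (by omega)).choose_spec
  have hroot0 : ∀ s, root s ≠ 0 := fun s h => s.2 (by
    rw [← hroot s, h, zero_zpow _ (by omega)])
  let ψ : {s : k // s ≠ 0} → {χ : SLn N k →ₐ[k] k // ∀ f ∈ I, χ f = 0} := fun s =>
    ⟨SLn.pt N k _ (hdetG (root s) (hroot0 s)), hkill (root s) (hroot0 s)⟩
  have hψ : Function.Injective ψ := fun s s' hss =>
    root_injective_aux H hH root r i0 hroot s s' fun i j => by
      have h4 := congrArg (fun q : {χ : SLn N k →ₐ[k] k // ∀ f ∈ I, χ f = 0} => q.1 (SLn.X i j)) hss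
      simp only [ψ, SLn.pt_X] at h4
      exact h4
  have := finite_points (k := k) I
  have hinf : Infinite {s : k // s ≠ 0} :=
    Set.infinite_coe_iff.2 (Set.Finite.infinite_compl (Set.finite_singleton (0 : k)))
  exact (Finite.of_injective ψ hψ).false

end FormStabLib

end
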