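import Groth.Prelude.Def_GLin6
import Groth.Agent.FormStabLib.Subst

/-!
# The orbit morphism of a point of the space of forms, in coordinates
-/

universe u v

noncomputable section

open TensorProduct MvPolynomial

namespace FormStabLib

open CoordGrp

variable {k : Type u} [CommRing k] {N m : ℕ}

/-- The multinomial theorem indexed by exponent vectors of degree `m`. -/
theorem pow_sum_formIdx {S : Type v} [CommRing S] (f : Fin N → S) (m : ℕ) :
    (∑ i, f i) ^ m = ∑ l : FormIdx N m, (l.1.multinomial : S) * ∏ i, f i ^ l.1 i := by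
  classical
  have key : (∑ i, X i : MvPolynomial (Fin N) ℕ) ^ m =
      ∑ l : FormIdx N m, C (l.1.multinomial) * ∏ i, X i ^ l.1 i := by
    have h1 : ∀ l : FormIdx N m, C (l.1.multinomial) * ∏ i, X i ^ l.1 i =
        (monomial l.1 l.1.multinomial : MvPolynomial (Fin N) ℕ) := fun l => by
      rw [monomial_eq, Finsupp.prod_fintype _ _ (fun i => pow_zero _)]
    simp only [h1]
    ext e
    have h2 := coeff_linearCombination_X_pow_of_fintype (fun _ : Fin N => (1 : ℕ)) e m
    simp only [one_smul, one_pow, Finsupp.prod, Finset.prod_const_one, mul_one, Nat.cast_id] at h2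
    rw [h2, coeff_sum]
    by_cases he : e.degree = m
    · rw [if_pos (by rw [← he]; rfl), Finset.sum_eq_single ⟨e, he⟩]
      · simp
      · intro l _ hl
        rw [coeff_monomial, if_neg fun h => hl (Subtype.ext h)]
      · intro h; exact absurd (Finset.mem_univ _) h
    · rw [if_neg (fun h => he (by rw [← h]; rfl)), Finset.sum_eq_zero]
      intro l _
      rw [coeff_monomial, if_neg]
      rintro rfl
      exact he l.2
  have := congrArg (eval₂ (Nat.castRingHom S) f) key
  simpa [eval₂_sum, eval₂_pow, eval₂_mul, eval₂_prod] using this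

variable {K : Type v} [CommRing K]

/-- The substitution `x_i ↦ ∑_j g_ji x_j` applied to `x^l`. -/
def colPow (g : Matrix (Fin N) (Fin N) K) (l : FormIdx N m) : MvPolynomial (Fin N) K :=
  ∏ i, (∑ j, C (g j i) * X j) ^ l.1 i

/-- The form of the point moved by `g` is the substituted form. -/
theorem sub_formPoly (g : Matrix (Fin N) (Fin N) K) (a : FormIdx N m → K) :
    sub g (formPoly a) = ∑ l : FormIdx N m,
      monomial l.1 ((l.1.multinomial : K) * ∑ e : FormIdx N m, a e * coeff e.1 (colPow g l)) := by
  classical
  let ℓ : Fin N → MvPolynomial (Fin N) K := fun j => ∑ i, C (g j i) * X i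
  have hE : ∀ e : FormIdx N m, (e.1.multinomial : MvPolynomial (Fin N) K) * ∏ j, ℓ j ^ e.1 j =
      ∑ l : FormIdx N m, monomial l.1 ((l.1.multinomial : K) * coeff e.1 (colPow g l)) := by
    intro e
    have hZ : (∑ j, C (ℓ j) * X j : MvPolynomial (Fin N) (MvPolynomial (Fin N) K)) =
        ∑ i, C (X i) * MvPolynomial.map C (∑ j, C (g j i) * X j) := by
      simp only [ℓ, map_sum, map_mul, map_C, map_X, Finset.mul_sum, Finset.sum_mul]
      rw [Finset.sum_comm]
      exact Finset.sum_congr rfl fun i _ => Finset.sum_congr rfl fun j _ => by ring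
    have h1 := congrArg (fun Z => coeff e.1 (Z ^ m)) hZ
    simp only [pow_sum_formIdx, mul_pow, Finset.prod_mul_distrib] at h1
    simp only [← map_pow (C : MvPolynomial (Fin N) K →+* _), ← map_prod (C : MvPolynomial (Fin N) K →+* _),
      ← map_pow (MvPolynomial.map (C : K →+* MvPolynomial (Fin N) K)),
      ← map_prod (MvPolynomial.map (C : K →+* MvPolynomial (Fin N) K))] at h1
    rw [coeff_sum, coeff_sum, Finset.sum_eq_single e] at h1
    · rw [← C_eq_coe_nat, coeff_C_mul, coeff_C_mul] at h1
      have hXe : coeff e.1 (∏ j, X j ^ e.1 j : MvPolynomial (Fin N) (MvPolynomial (Fin N) K)) = 1 := by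
        rw [show (∏ j, X j ^ e.1 j : MvPolynomial (Fin N) (MvPolynomial (Fin N) K)) = monomial e.1 1 by
          rw [monomial_eq, Finsupp.prod_fintype _ _ (fun i => pow_zero _), map_one, one_mul],
          coeff_monomial, if_pos rfl]
      rw [hXe, mul_one] at h1
      rw [h1]
      refine Finset.sum_congr rfl fun l _ => ?_
      rw [← C_eq_coe_nat, coeff_C_mul, coeff_C_mul, coeff_map, ← C_eq_coe_nat,
        monomial_eq, Finsupp.prod_fintype _ _ (fun i => pow_zero _), map_mul, colPow, C_eq_coe_nat]
      ring
    · intro l _ hl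
      rw [← C_eq_coe_nat, coeff_C_mul, coeff_C_mul,
        show (∏ j, X j ^ l.1 j : MvPolynomial (Fin N) (MvPolynomial (Fin N) K)) = monomial l.1 1 by
          rw [monomial_eq, Finsupp.prod_fintype _ _ (fun i => pow_zero _), map_one, one_mul],
        coeff_monomial, if_neg fun h => hl (Subtype.ext h), mul_zero, mul_zero]
    · intro h; exact absurd (Finset.mem_univ e) h
  calc sub g (formPoly a)
      = ∑ e : FormIdx N m, C (a e) * ((e.1.multinomial : MvPolynomial (Fin N) K) * ∏ j, ℓ j ^ e.1 j) := by
        rw [formPoly, map_sum]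
        refine Finset.sum_congr rfl fun e _ => ?_
        rw [sub, aeval_monomial, Finsupp.prod_fintype _ _ (fun i => pow_zero _),
          MvPolynomial.algebraMap_eq, map_mul, map_natCast]
        ring
    _ = _ := by
        simp only [hE, Finset.mul_sum, C_mul_monomial]
        rw [Finset.sum_comm]
        refine Finset.sum_congr rfl fun l _ => ?_
        rw [map_sum]
        exact Finset.sum_congr rfl fun e _ => by rw [mul_left_comm]

variable [Algebra k K]

/-- The matrix coefficients of the representation on forms, at a point of the matrix monoid. -/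
theorem map_formCoeff (χ : Mat N k →ₐ[k] K) (e l : FormIdx N m) :
    χ (formCoeff k N m e l) = coeff e.1 (colPow (fun j i => χ (Mat.X j i)) l) := by
  classical
  let Ψ : MvPolynomial (Fin N) k ⊗[k] Mat N k →ₐ[k] MvPolynomial (Fin N) K :=
    Algebra.TensorProduct.lift (MvPolynomial.aeval X) ((IsScalarTower.toAlgHom k K _).comp χ)
      (fun _ _ => Commute.all _ _)
  have hΨ : ∀ w, coeff e.1 (Ψ w) = χ (coeffT (k := k) e.1 w) := by
    intro w
    induction w using TensorProduct.induction_on with
    | zero => simp
    | add x y hx hy => simp only [map_add, coeff_add, hx, hy]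
    | tmul p b =>
      have hp : (MvPolynomial.aeval X : MvPolynomial (Fin N) k →ₐ[k] MvPolynomial (Fin N) K) p =
          MvPolynomial.map (algebraMap k K) p := by
        induction p using MvPolynomial.induction_on with
        | C c => simp [IsScalarTower.algebraMap_apply k K (MvPolynomial (Fin N) K)]
        | add p q hp hq => simp only [map_add, hp, hq]
        | mul_X p i hp => simp only [map_mul, hp, MvPolynomial.aeval_X, map_X]
      simp only [Ψ, Algebra.TensorProduct.lift_tmul, AlgHom.comp_apply, IsScalarTower.coe_toAlgHom',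
        hp, coeffT_tmul, map_smul, MvPolynomial.algebraMap_eq]
      rw [mul_comm, coeff_C_mul, coeff_map, Algebra.smul_def, mul_comm]
  rw [formCoeff_def, ← hΨ]
  congr 1
  rw [← AlgHom.comp_apply, monomial_eq, Finsupp.prod_fintype _ _ (fun i => pow_zero _), map_one, one_mul]
  simp only [map_prod, map_pow, colPow]
  refine Finset.prod_congr rfl fun i _ => ?_
  congr 1
  rw [AlgHom.comp_apply, stdCoactAlg_X, map_sum]
  refine Finset.sum_congr rfl fun j _ => ?_
  simp [Ψ, mul_comm]

end FormStabLib

end
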