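import Groth.Prelude.Def_GLin
import Mathlib

/-!
# A finite orbit morphism makes a point stable
-/

universe u v w

namespace FormStabLib

/-- If the orbit morphism is finite, the orbit is closed and the stabiliser finite. -/
theorem isStablePt_of_finite {k : Type u} [Field k] {A : Type v} [CommRing A] [Bialgebra k A]
    {R : Type w} [CommRing R] [Algebra k R] [HopfRep.Comod k A R] [GLin.IsCoactAlg k A R]
    (x : R →ₐ[k] k) (hfin : (GLin.orbitHom k A x).toRingHom.Finite) : GLin.IsStablePt k A x := by
  classical
  set φ := GLin.orbitHom k A x with hφ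
  refine ⟨(PrimeSpectrum.isClosedMap_comap_of_isIntegral _ hfin.to_isIntegral).isClosed_range, ?_⟩
  let : Algebra R A := φ.toRingHom.toAlgebra
  have : Module.Finite R A := hfin
  obtain ⟨s, hs⟩ := Module.Finite.fg_top (R := R) (M := A)
  set I := GLin.stabIdeal k A x with hI
  refine ⟨⟨s.image (Ideal.Quotient.mk I), ?_⟩⟩
  rw [eq_top_iff]
  rintro q -
  obtain ⟨y, rfl⟩ := Ideal.Quotient.mk_surjective q
  have hy : y ∈ Submodule.span R (s : Set A) := hs ▸ trivial
  induction hy using Submodule.span_induction with
  | mem y hy => exact Submodule.subset_span (by simpa using ⟨y, hy, rfl⟩)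
  | zero => simp
  | add y z _ _ hy hz => rw [map_add]; exact add_mem hy hz
  | smul r y _ hy =>
    have hr : Ideal.Quotient.mk I (r • y) = x r • Ideal.Quotient.mk I y := by
      rw [Algebra.smul_def, Algebra.smul_def, map_mul]
      congr 1
      rw [IsScalarTower.algebraMap_apply k A (A ⧸ I), Ideal.Quotient.algebraMap_eq, Ideal.Quotient.eq]
      change φ r - algebraMap k A (x r) ∈ I
      rw [← φ.commutes, ← map_sub]
      exact Ideal.mem_map_of_mem _ (by simp [RingHom.mem_ker])
    rw [hr]
    exact Submodule.smul_mem _ _ hy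

end FormStabLib
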