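import Groth.Prelude.Def_GLin6
import Groth.Agent.FormStabLib.Integral
import Groth.Agent.FormStabLib.Orbit

/-!
# Nonsingular forms of degree at least three are stable
-/

universe u

noncomputable section

open TensorProduct MvPolynomial

namespace FormStabLib

open CoordGrp

variable {k : Type u} [Field k] {N m : ℕ}

/-- The coordinate ring of `SL_N` is generated by the matrix entries. -/
theorem sln_adjoin_top : Algebra.adjoin k (Set.range fun p : Fin N × Fin N => (SLn.X p.1 p.2 : SLn N k)) = ⊤ := by
  rw [eq_top_iff]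
  rintro y -
  set T := Algebra.adjoin k (Set.range fun p : Fin N × Fin N => (SLn.X p.1 p.2 : SLn N k))
  let φ : MvPolynomial (GLPoly.Idx N) k →ₐ[k] SLn N k := (SLn.mk N k).comp (GLn.mk N k)
  have h : φ.range ≤ T := by
    rw [← Algebra.map_top, ← MvPolynomial.adjoin_range_X, AlgHom.map_adjoin, Algebra.adjoin_le_iff]
    rintro _ ⟨_, ⟨o, rfl⟩, rfl⟩
    rcases o with p | u
    · exact Algebra.subset_adjoin ⟨p, rfl⟩
    · change SLn.mk N k (GLn.Dinv : GLn N k) ∈ T
      have h1 : SLn.mk N k (GLn.Dinv : GLn N k) = 1 := by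
        have := congrArg (SLn.mk N k) (GLn.Dinv_mul_det (n := N) (k := k))
        rwa [map_mul, SLn.det_eq_one, mul_one, map_one] at this
      rw [h1]
      exact one_mem _
  obtain ⟨z, rfl⟩ : ∃ z, SLn.mk N k z = y := Ideal.Quotient.mk_surjective y
  obtain ⟨w, rfl⟩ : ∃ w, GLn.mk N k w = z := Ideal.Quotient.mk_surjective z
  exact h ⟨w, rfl⟩

/-- The coaction of `SL_N` on forms. -/
abbrev slHom (k : Type u) [Field k] (N : ℕ) : Mat N k →ₐc[k] SLn N k :=
  (SLn.mkHom N k).comp (Mat.toGLn N k)

/-- Forms are homogeneous. -/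
theorem formPoly_isHomogeneous (a : FormIdx N m → k) : (formPoly a).IsHomogeneous m :=
  IsHomogeneous.sum _ _ _ fun e _ => isHomogeneous_monomial _ e.2

/-- The orbit morphism on coordinates. -/
theorem orbitHom_X (a : FormIdx N m → k) (l : FormIdx N m) :
    @GLin.orbitHom k _ (SLn N k) _ _ (MvPolynomial (FormIdx N m) k) _ _ (GLin.comodAlong (slHom k N) (formsCoact k N m))
      (GLin.isCoactAlg_comodAlong (slHom k N) (formsCoact k N m) (formsCoact_isCoactAlg k N m))
      (GLin.vecPt k (FormIdx N m) a) (X l) =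
      ∑ e : FormIdx N m, a e • (slHom k N : Mat N k →ₐ[k] SLn N k) (formCoeff k N m e l) := by
  let := GLin.comodAlong (slHom k N) (formsCoact k N m)
  have := GLin.isCoactAlg_comodAlong (slHom k N) (formsCoact k N m) (formsCoact_isCoactAlg k N m)
  have hc : GLin.coactAlgHom k (SLn N k) (MvPolynomial (FormIdx N m) k) (X l) =
      TensorProduct.map LinearMap.id (((slHom k N) : Mat N k →ₐc[k] SLn N k) : Mat N k →ₗ[k] SLn N k)
        (formsCoactAlg k N m (X l)) := rfl
  simp only [GLin.orbitHom, AlgHom.comp_apply, hc, formsCoactAlg_X, map_sum,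
    TensorProduct.map_tmul, LinearMap.id_apply]
  refine Finset.sum_congr rfl fun e _ => ?_
  simp [Algebra.TensorProduct.map_tmul]

variable [IsAlgClosed k]

/-- The orbit morphism of a form satisfying `NoDestab` is finite. -/
theorem orbitHom_finite (a : FormIdx N m → k) (hnd : NoDestab (formPoly a)) :
    (@GLin.orbitHom k _ (SLn N k) _ _ (MvPolynomial (FormIdx N m) k) _ _ (GLin.comodAlong (slHom k N) (formsCoact k N m))
      (GLin.isCoactAlg_comodAlong (slHom k N) (formsCoact k N m) (formsCoact_isCoactAlg k N m))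
      (GLin.vecPt k (FormIdx N m) a)).toRingHom.Finite := by
  classical
  let := GLin.comodAlong (slHom k N) (formsCoact k N m)
  have := GLin.isCoactAlg_comodAlong (slHom k N) (formsCoact k N m) (formsCoact_isCoactAlg k N m)
  set φ := GLin.orbitHom k (SLn N k) (GLin.vecPt k (FormIdx N m) a) with hφ
  have hφX := fun l => orbitHom_X a l
  have hft : φ.toRingHom.FiniteType := by
    refine RingHom.FiniteType.of_comp_finiteType (f := algebraMap k (MvPolynomial (FormIdx N m) k)) ?_
    rw [AlgHom.toRingHom_eq_coe, AlgHom.comp_algebraMap, RingHom.finiteType_algebraMap]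
    refine ⟨(Set.finite_range fun p : Fin N × Fin N => (SLn.X p.1 p.2 : SLn N k)).toFinset, ?_⟩
    rw [Set.Finite.coe_toFinset]
    exact sln_adjoin_top
  refine RingHom.IsIntegral.to_finite ?_ hft
  let : Algebra (MvPolynomial (FormIdx N m) k) (SLn N k) := φ.toRingHom.toAlgebra
  have : IsScalarTower k (MvPolynomial (FormIdx N m) k) (SLn N k) :=
    IsScalarTower.of_algebraMap_eq fun c => (φ.commutes c).symm
  intro y
  suffices ⊤ ≤ (integralClosure (MvPolynomial (FormIdx N m) k) (SLn N k)).restrictScalars k from this (x := y) trivial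
  rw [← sln_adjoin_top, Algebra.adjoin_le_iff]
  rintro _ ⟨p, rfl⟩
  change φ.toRingHom.IsIntegralElem _
  refine isIntegralElem_of_valuative _ _ fun K _ ψ V hV => ?_
  let : Algebra k K := (ψ.comp (algebraMap k (SLn N k))).toAlgebra
  let ψa : SLn N k →ₐ[k] K := { ψ with commutes' := fun _ => rfl }
  have hk : ∀ c : k, algebraMap k K c ∈ V := fun c => by
    have := hV (C c)
    rwa [AlgHom.toRingHom_eq_coe, RingHom.coe_coe, ← MvPolynomial.algebraMap_eq, φ.commutes] at this
  let ι : k →+* V := (algebraMap k K).codRestrict V.toSubring hk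
  let χ : Mat N k →ₐ[k] K := ψa.comp ((slHom k N) : Mat N k →ₐ[k] SLn N k)
  let g : Matrix (Fin N) (Fin N) K := fun j i => χ (Mat.X j i)
  have hgX : ∀ i j, g i j = ψ (SLn.X i j) := fun i j => by
    simp [g, χ, ψa, SLn.X, SLn.mkHom]
  have hdet : g.det = 1 := by
    have h1 : g = ((ψa.comp (SLn.mk N k)).mapMatrix (GLn.genMat N k)) := by
      ext i j; rw [hgX]; rfl
    rw [h1, ← AlgHom.map_det, ← GLn.det_eq, AlgHom.comp_apply, SLn.det_eq_one, map_one]
  have key := entries_mem V ι hnd (formPoly_isHomogeneous a) g hdet ?_ p.1 p.2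
  · rwa [hgX] at key
  intro e
  have hmap : MvPolynomial.map (V.subtype.comp ι) (formPoly a) = formPoly (fun l => algebraMap k K (a l)) := by
    simp only [formPoly, map_sum, map_monomial, map_mul, map_natCast]
    rfl
  rw [hmap, sub_formPoly, coeff_sum]
  refine sum_mem fun l _ => ?_
  rw [coeff_monomial]
  split_ifs with hl
  · refine mul_mem (natCast_mem V _) ?_
    have := hV (X l)
    rw [AlgHom.toRingHom_eq_coe, RingHom.coe_coe, hφX, map_sum] at this
    convert this using 1
    refine Finset.sum_congr rfl fun e' _ => ?_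
    rw [Algebra.smul_def, map_mul]
    congr 1
    exact (map_formCoeff χ e' l).symm
  · exact zero_mem V

/-- Forms satisfying `NoDestab` have closed orbit and finite stabiliser. -/
theorem isStableVec_of_noDestab (a : FormIdx N m → k) (hnd : NoDestab (formPoly a)) :
    @GLin.IsStableVec k _ (SLn N k) _ _ (FormIdx N m) (GLin.comodAlong (slHom k N) (formsCoact k N m))
      (GLin.isCoactAlg_comodAlong (slHom k N) (formsCoact k N m) (formsCoact_isCoactAlg k N m)) a := by
  classical
  let := GLin.comodAlong (slHom k N) (formsCoact k N m)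
  have := GLin.isCoactAlg_comodAlong (slHom k N) (formsCoact k N m) (formsCoact_isCoactAlg k N m)
  set x := GLin.vecPt k (FormIdx N m) a with hx
  set φ := GLin.orbitHom k (SLn N k) x with hφ
  have hfin : φ.toRingHom.Finite := orbitHom_finite a hnd
  refine ⟨(PrimeSpectrum.isClosedMap_comap_of_isIntegral _ hfin.to_isIntegral).isClosed_range, ?_⟩
  let : Algebra (MvPolynomial (FormIdx N m) k) (SLn N k) := φ.toRingHom.toAlgebra
  have : Module.Finite (MvPolynomial (FormIdx N m) k) (SLn N k) := hfin
  obtain ⟨s, hs⟩ := Module.Finite.fg_top (R := MvPolynomial (FormIdx N m) k) (M := SLn N k)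
  set I := GLin.stabIdeal k (SLn N k) x with hI
  refine ⟨⟨s.image (Ideal.Quotient.mk I), ?_⟩⟩
  rw [eq_top_iff]
  rintro q -
  obtain ⟨y, rfl⟩ := Ideal.Quotient.mk_surjective q
  have hy : y ∈ Submodule.span (MvPolynomial (FormIdx N m) k) (s : Set (SLn N k)) := hs ▸ trivial
  induction hy using Submodule.span_induction with
  | mem y hy => exact Submodule.subset_span (by simpa using ⟨y, hy, rfl⟩)
  | zero => simp
  | add y z _ _ hy hz => rw [map_add]; exact add_mem hy hz
  | smul r y _ hy =>
    have hr : Ideal.Quotient.mk I (r • y) = x r • Ideal.Quotient.mk I y := by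
      rw [Algebra.smul_def, Algebra.smul_def, map_mul]
      congr 1
      rw [IsScalarTower.algebraMap_apply k (SLn N k) (SLn N k ⧸ I), Ideal.Quotient.algebraMap_eq, Ideal.Quotient.eq]
      change φ r - algebraMap k (SLn N k) (x r) ∈ I
      rw [← φ.commutes, ← map_sub]
      exact Ideal.mem_map_of_mem _ (by simp [RingHom.mem_ker])
    rw [hr]
    exact Submodule.smul_mem _ _ hy

/-- Nonsingular forms of degree at least three have closed orbit and finite stabiliser. -/
theorem isStableVec (hm : 3 ≤ m) (a : FormIdx N m → k)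
    (hsmooth : ∀ w : Fin N → k, w ≠ 0 → ∃ i, eval w (pderiv i (formPoly a)) ≠ 0) :
    @GLin.IsStableVec k _ (SLn N k) _ _ (FormIdx N m) (GLin.comodAlong (slHom k N) (formsCoact k N m))
      (GLin.isCoactAlg_comodAlong (slHom k N) (formsCoact k N m) (formsCoact_isCoactAlg k N m)) a :=
  isStableVec_of_noDestab a (noDestab_of_smooth hm (formPoly_isHomogeneous a) hsmooth)

end FormStabLib
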