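import Mathlib

/-!
# The valuative criterion of integrality for a ring map, and diagonalisation over a valuation ring
-/

universe u v

namespace FormStabLib

section Integral

variable {B : Type v} [CommRing B] {A : Type u} [CommRing A]

open Polynomial in
/-- An element is integral along `φ` as soon as every map to a field sends it into every valuation
subring containing the image of `φ`. -/
theorem isIntegralElem_of_valuative (φ : B →+* A) (x : A)
    (h : ∀ (K : Type u) [Field K] (ψ : A →+* K) (V : ValuationSubring K),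
      (∀ b, ψ (φ b) ∈ V) → ψ x ∈ V) :
    φ.IsIntegralElem x := by
  classical
  by_contra hx
  let S : Submonoid A :=
    { carrier := {y | ∃ p : B[X], p.Monic ∧ y = eval₂ φ x p}
      one_mem' := ⟨1, monic_one, by simp⟩
      mul_mem' := by
        rintro a b ⟨p, hp, rfl⟩ ⟨q, hq, rfl⟩
        exact ⟨p * q, hp.mul hq, by simp [eval₂_mul]⟩ }
  have h0 : Disjoint ((⊥ : Ideal A) : Set A) (S : Set A) := by
    rw [Set.disjoint_left]
    intro y hy hS
    obtain ⟨p, hp, rfl⟩ := hS
    exact hx ⟨p, hp, by simpa using hy⟩
  obtain ⟨q, hq, -, hdisj⟩ := Ideal.exists_le_prime_disjoint ⊥ S h0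
  let K := FractionRing (A ⧸ q)
  let ψ : A →+* K := (algebraMap (A ⧸ q) K).comp (Ideal.Quotient.mk q)
  have hψ : ∀ y, ψ y = 0 → y ∈ q := fun y hy => Ideal.Quotient.eq_zero_iff_mem.1
    (IsFractionRing.injective (A ⧸ q) K (by simpa [ψ] using hy))
  let : Algebra B K := (ψ.comp φ).toAlgebra
  have hnot : ψ x ∉ (integralClosure B K).toSubring := by
    intro hmem
    obtain ⟨p, hp, hpx⟩ : IsIntegral B (ψ x) := hmem
    rw [RingHom.algebraMap_toAlgebra, ← Polynomial.hom_eval₂] at hpx
    exact Set.disjoint_left.1 hdisj (hψ _ hpx) ⟨p, hp, rfl⟩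
  obtain ⟨V, hV, hxV⟩ := Subring.exists_le_valuationSubring_of_isIntegrallyClosedIn hnot
  refine hxV (h K ψ V fun b => hV ?_)
  exact (integralClosure B K).algebraMap_mem b

end Integral

section Diag

variable {K : Type u} [Field K] (V : ValuationSubring K)

open Matrix

/-- Embedding of `N × N` matrices as the lower right block, with `a` in the corner. -/
def corner {R : Type*} [Zero R] {N : ℕ} (a : R) (M : Matrix (Fin N) (Fin N) R) :
    Matrix (Fin (N + 1)) (Fin (N + 1)) R :=
  Matrix.of (Fin.cons (Fin.cons a 0) fun i => Fin.cons 0 (M i))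

@[simp] theorem corner_zero_zero {R : Type*} [Zero R] {N : ℕ} (a : R) (M : Matrix (Fin N) (Fin N) R) :
    corner a M 0 0 = a := rfl

@[simp] theorem corner_zero_succ {R : Type*} [Zero R] {N : ℕ} (a : R) (M : Matrix (Fin N) (Fin N) R)
    (j : Fin N) : corner a M 0 j.succ = 0 := rfl

@[simp] theorem corner_succ_zero {R : Type*} [Zero R] {N : ℕ} (a : R) (M : Matrix (Fin N) (Fin N) R)
    (i : Fin N) : corner a M i.succ 0 = 0 := rfl

@[simp] theorem corner_succ_succ {R : Type*} [Zero R] {N : ℕ} (a : R) (M : Matrix (Fin N) (Fin N) R)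
    (i j : Fin N) : corner a M i.succ j.succ = M i j := rfl

theorem corner_mul {R : Type*} [CommRing R] {N : ℕ} (a b : R) (M M' : Matrix (Fin N) (Fin N) R) :
    corner a M * corner b M' = corner (a * b) (M * M') := by
  ext i j
  refine Fin.cases ?_ (fun i => ?_) i <;> refine Fin.cases ?_ (fun j => ?_) j <;>
    simp [Matrix.mul_apply, Fin.sum_univ_succ]

theorem det_corner {R : Type*} [CommRing R] {N : ℕ} (a : R) (M : Matrix (Fin N) (Fin N) R) :
    (corner a M).det = a * M.det := by
  have : (corner a M).submatrix Fin.succ Fin.succ = M := by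
    ext i j; simp
  rw [Matrix.det_succ_row_zero, Fin.sum_univ_succ]
  simp [this]

theorem corner_diagonal {R : Type*} [CommRing R] {N : ℕ} (a : R) (d : Fin N → R) :
    corner a (Matrix.diagonal d) = Matrix.diagonal (Fin.cons a d) := by
  ext i j
  refine Fin.cases ?_ (fun i => ?_) i <;> refine Fin.cases ?_ (fun j => ?_) j
  · simp
  · simp [Matrix.diagonal_apply_ne _ (Fin.succ_ne_zero j).symm]
  · simp
  · simp [Matrix.diagonal_apply]

theorem corner_map {R S : Type*} [CommRing R] [CommRing S] (f : R →+* S) {N : ℕ} (a : R)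
    (M : Matrix (Fin N) (Fin N) R) : (corner a M).map f = corner (f a) (M.map f) := by
  ext i j
  refine Fin.cases ?_ (fun i => ?_) i <;> refine Fin.cases ?_ (fun j => ?_) j <;> simp

/-- Any matrix over the fraction field of a valuation ring is `u * diagonal * v` with `u`, `v`
invertible over the valuation ring. -/
theorem exists_diag : ∀ (N : ℕ) (g : Matrix (Fin N) (Fin N) K),
    ∃ (u v : Matrix (Fin N) (Fin N) V) (d : Fin N → K), IsUnit u.det ∧ IsUnit v.det ∧
      g = u.map V.subtype * Matrix.diagonal d * v.map V.subtype := by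
  intro N
  induction N with
  | zero => exact fun g => ⟨1, 1, 0, by simp, by simp, Subsingleton.elim _ _⟩
  | succ N ih =>
    intro g
    obtain ⟨⟨i0, j0⟩, -, hmax⟩ := Finset.exists_max_image (Finset.univ : Finset (Fin (N + 1) × Fin (N + 1)))
      (fun p => V.valuation (g p.1 p.2)) Finset.univ_nonempty
    rcases eq_or_ne (g i0 j0) 0 with h00 | h00
    · refine ⟨1, 1, 0, by simp, by simp, ?_⟩
      ext i j
      have := hmax (i, j) (Finset.mem_univ _)
      simp only [h00, map_zero, le_zero_iff, map_eq_zero] at this
      simp [this]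
    let σ : Equiv.Perm (Fin (N + 1)) := Equiv.swap 0 i0
    let τ : Equiv.Perm (Fin (N + 1)) := Equiv.swap 0 j0
    let g' : Matrix (Fin (N + 1)) (Fin (N + 1)) K := g.submatrix σ τ
    have hc : g' 0 0 = g i0 j0 := by simp [g', σ, τ]
    have hc0 : g' 0 0 ≠ 0 := hc ▸ h00
    have hdiv : ∀ i j, g' i j / g' 0 0 ∈ V := fun i j => by
      rw [← V.valuation_le_one_iff, map_div₀, div_le_one₀ (zero_lt_iff.2 (by simpa using hc0)), hc]
      exact hmax (σ i, τ j) (Finset.mem_univ _)
    let l : Fin N → V := fun i => ⟨g' i.succ 0 / g' 0 0, hdiv _ _⟩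
    let r : Fin N → V := fun j => ⟨g' 0 j.succ / g' 0 0, hdiv _ _⟩
    let L : Matrix (Fin (N + 1)) (Fin (N + 1)) V :=
      Matrix.of (Fin.cons (Fin.cons 1 0) fun i => Fin.cons (l i) (Pi.single i 1))
    let R : Matrix (Fin (N + 1)) (Fin (N + 1)) V :=
      Matrix.of (Fin.cons (Fin.cons 1 r) fun i => Fin.cons 0 (Pi.single i 1))
    let M : Matrix (Fin N) (Fin N) K :=
      Matrix.of fun i j => g' i.succ j.succ - g' i.succ 0 * g' 0 j.succ / g' 0 0
    have hL : L.det = 1 := by
      rw [Matrix.det_of_isLowerTriangular L]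
      · rw [Fin.prod_univ_succ]; simp [L]
      · intro i j hij
        change j > i at hij
        revert hij
        refine Fin.cases ?_ (fun i => ?_) i <;> refine Fin.cases ?_ (fun j => ?_) j <;> intro hij
        · exact absurd hij (lt_irrefl _)
        · simp [L]
        · exact absurd hij (by simp)
        · simp [L, (Fin.succ_lt_succ_iff.1 hij).ne']
    have hR : R.det = 1 := by
      rw [Matrix.det_of_isUpperTriangular]
      · rw [Fin.prod_univ_succ]; simp [R]
      · intro i j hij
        change j < i at hij
        revert hij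
        refine Fin.cases ?_ (fun i => ?_) i <;> refine Fin.cases ?_ (fun j => ?_) j <;> intro hij
        · exact absurd hij (lt_irrefl _)
        · exact absurd hij (by simp)
        · simp [R]
        · simp [R, (Fin.succ_lt_succ_iff.1 hij).ne]
    have hg' : g' = L.map V.subtype * corner (g' 0 0) M * R.map V.subtype := by
      ext i j
      refine Fin.cases ?_ (fun i => ?_) i <;> refine Fin.cases ?_ (fun j => ?_) j <;>
        simp [Matrix.mul_apply, Fin.sum_univ_succ, L, R, M, l, r, Pi.single_apply,
          apply_ite (fun y : V => (y : K))]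
      all_goals field_simp
      all_goals ring
    obtain ⟨u, v, d, hu, hv, hM⟩ := ih M
    let u' : Matrix (Fin (N + 1)) (Fin (N + 1)) V := (L * corner 1 u).submatrix σ id
    let v' : Matrix (Fin (N + 1)) (Fin (N + 1)) V := (corner 1 v * R).submatrix id τ
    refine ⟨u', v', Fin.cons (g' 0 0) d, ?_, ?_, ?_⟩
    · rw [show u'.det = _ from Matrix.det_permute σ _, Matrix.det_mul, det_corner, hL]
      refine IsUnit.mul ?_ (by simpa using hu)
      exact (Units.isUnit _).map (Int.castRingHom V)
    · rw [show v'.det = _ from Matrix.det_permute' τ _, Matrix.det_mul, det_corner, hR]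
      refine IsUnit.mul ?_ (by simpa using hv)
      exact (Units.isUnit _).map (Int.castRingHom V)
    · have hg : g = g'.submatrix σ τ := by
        ext i j; simp [g', σ, τ]
      have h1 : u'.map V.subtype = ((L * corner 1 u).map V.subtype).submatrix σ id := rfl
      have h2 : v'.map V.subtype = ((corner 1 v * R).map V.subtype).submatrix id τ := rfl
      rw [← corner_diagonal]
      generalize g' 0 0 = c at hg' ⊢
      rw [hg, hg', h1, h2, Matrix.map_mul, Matrix.map_mul, corner_map, corner_map, map_one, hM]
      have h3 : corner c (u.map V.subtype * Matrix.diagonal d * v.map V.subtype) =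
          corner 1 (u.map V.subtype) * corner c (Matrix.diagonal d) * corner 1 (v.map V.subtype) := by
        rw [corner_mul, corner_mul, one_mul, mul_one]
      rw [h3]
      have h4 : ∀ P Q S : Matrix (Fin (N + 1)) (Fin (N + 1)) K,
          (P * Q * S).submatrix σ τ = P.submatrix σ id * Q * S.submatrix id τ := fun P Q S => by
        ext i j; simp [Matrix.mul_apply]
      rw [← h4]
      simp only [Matrix.mul_assoc]

end Diag

end FormStabLib
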